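import Groth.Prelude.Def_W4c6equivkfinstabCyc
import Mathlib

/-! Localisation of group-ring modules at a dual cyclic subgroup vanishes off it. -/

universe u v

open Polynomial

noncomputable section

namespace Groth.Agent.CycLoc

open W4c6equivkfinstab

theorem subsingleton_of_eval_cyclotomic {R : Type*} [CommRing R] {t : R} {d n : ℕ} (hdn : d ∈ n.properDivisors)
    (ht : t ^ d = 1) (hΦ : (cyclotomic n R).eval t = 0) (hn : IsUnit (n : R)) : Subsingleton R := by
  obtain ⟨c, hc⟩ := X_pow_sub_one_mul_cyclotomic_dvd_X_pow_sub_one_of_dvd R hdn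
  have h := congrArg (fun p => (derivative p).eval t) hc
  simp [derivative_mul, hΦ, ht] at h
  have hd : 0 < d := Nat.pos_of_mem_properDivisors hdn
  have htu : IsUnit t := IsUnit.of_mul_eq_one (t ^ (d - 1)) (by rw [← pow_succ', Nat.sub_add_cancel hd, ht])
  have h0 : (0 : R) = 1 := by
    have := (hn.mul (htu.pow (n - 1)))
    rw [show (n : R) * t ^ (n - 1) = 0 by simpa [derivative_X_pow] using h] at this
    exact isUnit_zero_iff.1 this
  exact subsingleton_of_zero_eq_one h0

theorem isUnit_pow_sub_one {R : Type*} [CommRing R] {t : R} {k n : ℕ} (ht : t ^ n = 1)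
    (hΦ : (cyclotomic n R).eval t = 0) (hn : IsUnit (n : R)) (hk : ¬ n ∣ k) (hn0 : 0 < n) : IsUnit (t ^ k - 1) := by
  rw [← Ideal.span_singleton_eq_top]
  by_contra hne
  let I := Ideal.span {t ^ k - 1}
  have hnt : Nontrivial (R ⧸ I) := Ideal.Quotient.nontrivial_iff.2 hne
  let s := Ideal.Quotient.mk I t
  have hs : s ^ k = 1 := by
    rw [← map_pow, ← map_one (Ideal.Quotient.mk I), Ideal.Quotient.eq]
    exact Ideal.mem_span_singleton_self _
  have hs' : s ^ n = 1 := by rw [← map_pow, ht, map_one]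
  have hΦ' : (cyclotomic n (R ⧸ I)).eval s = 0 := by
    rw [← map_cyclotomic n (Ideal.Quotient.mk I), eval_map, eval₂_at_apply, hΦ, map_zero]
  have hd : Nat.gcd k n ∈ n.properDivisors := Nat.mem_properDivisors.2 ⟨Nat.gcd_dvd_right k n,
    (Nat.le_of_dvd hn0 (Nat.gcd_dvd_right k n)).lt_of_ne fun h => hk (h ▸ Nat.gcd_dvd_left k n)⟩
  have := subsingleton_of_eval_cyclotomic hd (pow_gcd_eq_one.2 ⟨hs, hs'⟩) hΦ'
    (by simpa using hn.map (Ideal.Quotient.mk I))
  exact not_nontrivial _ hnt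

theorem isUnit_eval_cyclotomic {R : Type*} [CommRing R] {s : R} {d n : ℕ} (hdn : d ∈ n.properDivisors)
    (hs : s ^ d = 1) (hn : IsUnit (n : R)) : IsUnit ((cyclotomic n R).eval s) := by
  rw [← Ideal.span_singleton_eq_top]
  by_contra hne
  let I := Ideal.span {(cyclotomic n R).eval s}
  have hnt : Nontrivial (R ⧸ I) := Ideal.Quotient.nontrivial_iff.2 hne
  have hΦ' : (cyclotomic n (R ⧸ I)).eval (Ideal.Quotient.mk I s) = 0 := by
    rw [← map_cyclotomic n (Ideal.Quotient.mk I), eval_map, eval₂_at_apply, Ideal.Quotient.eq_zero_iff_mem]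
    exact Ideal.mem_span_singleton_self _
  have := subsingleton_of_eval_cyclotomic hdn (by rw [← map_pow, hs, map_one]) hΦ'
    (by simpa using hn.map (Ideal.Quotient.mk I))
  exact not_nontrivial _ hnt

variable {Λ : Type u} [CommRing Λ] {M : Type v} [AddCommGroup M]

lemma cycQuotMap_single (B : AddSubgroup M) (m : M) :
    cycQuotMap Λ M B (AddMonoidAlgebra.single m 1) =
      Ideal.Quotient.mk (cycIdeal Λ (M ⧸ B)) (AddMonoidAlgebra.single (m : M ⧸ B) 1) := by
  simp [cycQuotMap, quotMap]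

lemma cycQuotMap_surjective (B : AddSubgroup M) : Function.Surjective (cycQuotMap Λ M B) := by
  refine Ideal.Quotient.mk_surjective.comp ?_
  intro y
  induction y using AddMonoidAlgebra.induction_linear with
  | zero => exact ⟨0, map_zero _⟩
  | single c r =>
    obtain ⟨m, rfl⟩ := QuotientAddGroup.mk_surjective c
    exact ⟨AddMonoidAlgebra.single m r, by simp [quotMap]⟩
  | add a b ha hb =>
    obtain ⟨a', rfl⟩ := ha
    obtain ⟨b', rfl⟩ := hb
    exact ⟨a' + b', map_add _ _ _⟩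

/-- If some element killing the module becomes a unit at the cyclic subgroup, the localisation is zero. -/
theorem subsingleton_localized {N : Type*} [AddCommGroup N] [Module (AddMonoidAlgebra Λ M) N] (B : AddSubgroup M)
    (x : AddMonoidAlgebra Λ M) (hx : ∀ y : N, x • y = 0) (hu : IsUnit (cycQuotMap Λ M B x)) :
    Subsingleton (LocalizedModule (locSubmonoid Λ M B) N) := by
  obtain ⟨u, hu⟩ := hu
  obtain ⟨z, hz⟩ := cycQuotMap_surjective (Λ := Λ) B ((u⁻¹ : (CycQuot Λ (M ⧸ B))ˣ) : CycQuot Λ (M ⧸ B))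
  rw [LocalizedModule.subsingleton_iff]
  intro y
  refine ⟨z * x, ?_, by rw [mul_smul, hx, smul_zero]⟩
  show cycQuotMap Λ M B (z * x) = 1
  rw [map_mul, hz, ← hu, Units.inv_mul]

lemma pow_gen {C : Type*} [AddCommGroup C] {g c : C} (k : ℕ) (h : k • g = c) :
    (AddMonoidAlgebra.single g 1 : AddMonoidAlgebra Λ C) ^ k = AddMonoidAlgebra.single c 1 := by
  rw [AddMonoidAlgebra.single_pow, one_pow, h]

/-- The generator relation in the cyclotomic quotient. -/
lemma eval_gen {C : Type*} [AddCommGroup C] {g : C} (hg : AddSubgroup.zmultiples g = ⊤) :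
    (cyclotomic (Nat.card C) (CycQuot Λ C)).eval (Ideal.Quotient.mk (cycIdeal Λ C) (AddMonoidAlgebra.single g 1)) = 0 := by
  have h : Polynomial.aeval (AddMonoidAlgebra.single g (1 : Λ)) (cyclotomic (Nat.card C) Λ) ∈ cycIdeal Λ C :=
    Ideal.subset_span ⟨g, hg, rfl⟩
  rw [← Ideal.Quotient.eq_zero_iff_mem, aeval_def, eval₂_eq_eval_map, map_cyclotomic] at h
  rw [← map_cyclotomic (Nat.card C) (Ideal.Quotient.mk (cycIdeal Λ C)), eval_map, eval₂_at_apply]
  exact h

theorem isUnit_single_sub_one (B : AddSubgroup M) [B.FiniteIndex] [IsAddCyclic (M ⧸ B)] {m : M} (hm : m ∉ B)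
    (hu : IsUnit (B.index : Λ)) : IsUnit (cycQuotMap Λ M B (AddMonoidAlgebra.single m 1 - 1)) := by
  obtain ⟨g, hg⟩ := IsAddCyclic.exists_generator (α := M ⧸ B)
  have hgt : AddSubgroup.zmultiples g = ⊤ := top_le_iff.1 fun z _ => hg z
  have hord : addOrderOf g = Nat.card (M ⧸ B) := addOrderOf_eq_card_of_forall_mem_zmultiples hg
  obtain ⟨k, hk⟩ : ∃ k : ℕ, k • g = (m : M ⧸ B) := by
    have : Finite (M ⧸ B) := inferInstance
    exact ((isOfFinAddOrder_of_finite g).mem_multiples_iff_mem_zmultiples).2 (hg _)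
  have hn0 : 0 < Nat.card (M ⧸ B) := Nat.card_pos
  rw [map_sub, map_one, cycQuotMap_single, ← pow_gen k hk, map_pow]
  refine isUnit_pow_sub_one (n := Nat.card (M ⧸ B)) ?_ (eval_gen hgt) ?_ ?_ hn0
  · rw [← map_pow, pow_gen (Nat.card (M ⧸ B)) (hord ▸ addOrderOf_nsmul_eq_zero g), ← AddMonoidAlgebra.one_def, map_one]
  · have h2 : IsUnit ((Nat.card (M ⧸ B) : ℕ) : Λ) := by rwa [← AddSubgroup.index_eq_card]
    simpa using h2.map ((Ideal.Quotient.mk (cycIdeal Λ (M ⧸ B))).comp AddMonoidAlgebra.singleZeroRingHom)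
  · intro hdvd
    rw [← hord] at hdvd
    rw [addOrderOf_dvd_iff_nsmul_eq_zero.1 hdvd] at hk
    exact hm ((QuotientAddGroup.eq_zero_iff m).1 hk.symm)

theorem subsingleton_of_not_le (B₀ B : AddSubgroup M) [B.FiniteIndex] [IsAddCyclic (M ⧸ B)] (hle : ¬ B₀ ≤ B)
    (hu : IsUnit (B.index : Λ)) :
    Subsingleton (LocalizedModule (locSubmonoid Λ M B) (AddMonoidAlgebra Λ (M ⧸ B₀))) := by
  obtain ⟨m, hm0, hm⟩ := SetLike.not_le_iff_exists.1 hle
  refine subsingleton_localized B (AddMonoidAlgebra.single m 1 - 1) (fun y => ?_) (isUnit_single_sub_one B hm hu)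
  show quotMap Λ M B₀ (AddMonoidAlgebra.single m 1 - 1) * y = 0
  rw [map_sub, map_one, show quotMap Λ M B₀ (AddMonoidAlgebra.single m 1) = 1 by
    simp [quotMap, (QuotientAddGroup.eq_zero_iff m).2 hm0, AddMonoidAlgebra.one_def], sub_self, zero_mul]

theorem subsingleton_cycQuot (B B' : AddSubgroup M) [B.FiniteIndex] [B'.FiniteIndex]
    [IsAddCyclic (M ⧸ B)] [IsAddCyclic (M ⧸ B')] (hne : B ≠ B') (hu : IsUnit (B.index : Λ)) (hu' : IsUnit (B'.index : Λ)) :
    Subsingleton (LocalizedModule (locSubmonoid Λ M B') (CycQuot Λ (M ⧸ B))) := by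
  by_cases hle : B ≤ B'
  · obtain ⟨g, hg⟩ := IsAddCyclic.exists_generator (α := M ⧸ B)
    obtain ⟨m, rfl⟩ := QuotientAddGroup.mk_surjective g
    have hgt : AddSubgroup.zmultiples (m : M ⧸ B) = ⊤ := top_le_iff.1 fun z _ => hg z
    let x : AddMonoidAlgebra Λ M :=
      Polynomial.aeval (AddMonoidAlgebra.single m (1 : Λ)) (cyclotomic (Nat.card (M ⧸ B)) Λ)
    have hmap : ∀ (C : AddSubgroup M), cycQuotMap Λ M C x = (cyclotomic (Nat.card (M ⧸ B)) (CycQuot Λ (M ⧸ C))).eval
        (cycQuotMap Λ M C (AddMonoidAlgebra.single m 1)) := fun C => by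
      simp only [x, aeval_def, eval₂_eq_eval_map, map_cyclotomic]
      rw [← map_cyclotomic (Nat.card (M ⧸ B)) (cycQuotMap Λ M C), eval_map, eval₂_at_apply]
    refine subsingleton_localized B' x (fun y => ?_) ?_
    · obtain ⟨y, rfl⟩ := Ideal.Quotient.mk_surjective y
      show Ideal.Quotient.mk _ (quotMap Λ M B x * y) = 0
      rw [map_mul, show Ideal.Quotient.mk (cycIdeal Λ (M ⧸ B)) (quotMap Λ M B x) = cycQuotMap Λ M B x from rfl, hmap,
        cycQuotMap_single, eval_gen hgt, zero_mul]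
    · rw [hmap, cycQuotMap_single]
      refine isUnit_eval_cyclotomic (d := Nat.card (M ⧸ B')) ?_ ?_ ?_
      · rw [Nat.mem_properDivisors, ← AddSubgroup.index_eq_card, ← AddSubgroup.index_eq_card]
        exact ⟨AddSubgroup.index_dvd_of_le hle,
          AddSubgroup.index_strictAnti (lt_of_le_of_ne hle hne)⟩
      · rw [← map_pow, pow_gen (c := (0 : M ⧸ B')) (Nat.card (M ⧸ B')) (by simp), ← AddMonoidAlgebra.one_def, map_one]
      · rw [AddSubgroup.index_eq_card] at hu
        simpa using hu.map ((Ideal.Quotient.mk (cycIdeal Λ (M ⧸ B'))).comp AddMonoidAlgebra.singleZeroRingHom)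
  · obtain ⟨m, hm, hm'⟩ := SetLike.not_le_iff_exists.1 hle
    refine subsingleton_localized B' (AddMonoidAlgebra.single m 1 - 1) (fun y => ?_) (isUnit_single_sub_one B' hm' hu')
    obtain ⟨y, rfl⟩ := Ideal.Quotient.mk_surjective y
    show Ideal.Quotient.mk _ (quotMap Λ M B (AddMonoidAlgebra.single m 1 - 1) * y) = 0
    rw [map_sub, map_one, show quotMap Λ M B (AddMonoidAlgebra.single m 1) = 1 by
      simp [quotMap, (QuotientAddGroup.eq_zero_iff m).2 hm, AddMonoidAlgebra.one_def], sub_self, zero_mul, map_zero]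

end Groth.Agent.CycLoc
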