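import Groth.Agent.CycLoc.Basic

/-! Decomposition of group algebras along dual cyclic subgroups. -/

universe u v

set_option maxHeartbeats 1600000

open Polynomial

noncomputable section

namespace Groth.Agent.CycLoc

open W4c6equivkfinstab

variable {Λ : Type u} [CommRing Λ] {M : Type v} [AddCommGroup M]

theorem exists_factor (B₀ : AddSubgroup M) [B₀.FiniteIndex] (hu : IsUnit (B₀.index : Λ))
    {L : Type*} [CommRing L] [IsLocalRing L] (ψ : AddMonoidAlgebra Λ (M ⧸ B₀) →+* L) :
    ∃ B : AddSubgroup M, B₀ ≤ B ∧ IsAddCyclic (M ⧸ B) ∧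
      RingHom.ker (cycQuotMap Λ M B) ≤ RingHom.ker (ψ.comp (quotMap Λ M B₀)) := by
  classical
  let t : M → L := fun m => ψ (quotMap Λ M B₀ (AddMonoidAlgebra.single m 1))
  have hts : ∀ m, t m = ψ (AddMonoidAlgebra.single (m : M ⧸ B₀) 1) := fun m => by simp [t, quotMap]
  have t0 : t 0 = 1 := by
    show ψ (quotMap Λ M B₀ (AddMonoidAlgebra.single 0 1)) = 1
    rw [← AddMonoidAlgebra.one_def, map_one, map_one]
  have tadd : ∀ a b, t (a + b) = t a * t b := fun a b => by
    show ψ (quotMap Λ M B₀ (AddMonoidAlgebra.single (a + b) 1)) = _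
    rw [← map_mul, ← map_mul, AddMonoidAlgebra.single_mul_single, one_mul]
  have tnsmul : ∀ (k : ℕ) a, t (k • a) = t a ^ k := fun k a => by
    induction k with
    | zero => simp [t0]
    | succ k ih => rw [succ_nsmul, tadd, ih, pow_succ]
  set N := Nat.card (M ⧸ B₀) with hN
  have htN : ∀ m, t m ^ N = 1 := fun m => by
    rw [← tnsmul, hts, QuotientAddGroup.mk_nsmul, hN, ← AddSubgroup.index_eq_card]
    rw [show B₀.index • (m : M ⧸ B₀) = 0 by rw [AddSubgroup.index_eq_card]; exact card_nsmul_eq_zero']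
    rw [← AddMonoidAlgebra.one_def, map_one]
  have hNu : IsUnit (N : L) := by
    rw [hN, ← AddSubgroup.index_eq_card]
    simpa using hu.map (ψ.comp AddMonoidAlgebra.singleZeroRingHom)
  let π := IsLocalRing.residue L
  let B : AddSubgroup M :=
    { carrier := {m | π (t m) = 1}
      add_mem' := fun {a b} ha hb => by
        simp only [Set.mem_setOf_eq] at ha hb ⊢
        rw [tadd, map_mul, ha, hb, one_mul]
      zero_mem' := by simp [t0]
      neg_mem' := fun {a} ha => by
        simp only [Set.mem_setOf_eq] at ha ⊢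
        have := tadd (-a) a
        rw [neg_add_cancel, t0] at this
        have h2 := congrArg π this
        rw [map_mul, ha, mul_one, map_one] at h2
        exact h2.symm }
  have hB₀ : B₀ ≤ B := fun m hm => by
    show π (t m) = 1
    rw [hts, (QuotientAddGroup.eq_zero_iff m).2 hm, ← AddMonoidAlgebra.one_def, map_one, map_one]
  have hone : ∀ m ∈ B, t m = 1 := fun m hm => by
    have hg : (∑ i ∈ Finset.range N, t m ^ i) * (t m - 1) = 0 := by rw [geom_sum_mul, htN, sub_self]
    have hgu : IsUnit (∑ i ∈ Finset.range N, t m ^ i) := by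
      rw [← IsLocalRing.notMem_maximalIdeal, ← IsLocalRing.residue_eq_zero_iff, map_sum]
      simp only [map_pow, show IsLocalRing.residue L (t m) = 1 from hm, one_pow, Finset.sum_const, Finset.card_range,
        nsmul_eq_mul, mul_one]
      rw [← map_natCast (IsLocalRing.residue L)]
      exact ((hNu.map (IsLocalRing.residue L)).ne_zero)
    exact sub_eq_zero.1 ((hgu.mul_right_eq_zero).1 hg)
  have : B.FiniteIndex := AddSubgroup.finiteIndex_of_le hB₀
  let χ₀ : M →+ Additive (IsLocalRing.ResidueField L) :=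
    { toFun := fun m => Additive.ofMul (π (t m))
      map_zero' := by simp [t0]
      map_add' := fun a b => by simp [tadd] }
  let χ : Multiplicative (M ⧸ B) →* IsLocalRing.ResidueField L :=
    AddMonoidHom.toMultiplicativeLeft (QuotientAddGroup.lift B χ₀ fun m hm => congrArg Additive.ofMul hm)
  have hχ : ∀ m : M, χ (Multiplicative.ofAdd (m : M ⧸ B)) = π (t m) := fun m => rfl
  have hχinj : Function.Injective χ := by
    intro a b hab
    induction a using Multiplicative.rec with | _ a => ?_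
    induction b using Multiplicative.rec with | _ b => ?_
    obtain ⟨a, rfl⟩ := QuotientAddGroup.mk_surjective a
    obtain ⟨b, rfl⟩ := QuotientAddGroup.mk_surjective b
    rw [hχ, hχ] at hab
    refine congrArg Multiplicative.ofAdd (QuotientAddGroup.eq.2 ?_)
    show π (t (-a + b)) = 1
    rw [tadd, map_mul, ← hab, ← map_mul, ← tadd, neg_add_cancel, t0, map_one]
  have : IsCyclic (Multiplicative (M ⧸ B)) := isCyclic_of_subgroup_isDomain χ hχinj
  have hcyc : IsAddCyclic (M ⧸ B) := isCyclic_multiplicative_iff.1 ‹_›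
  refine ⟨B, hB₀, hcyc, ?_⟩
  let T₀ : M →+ Additive L :=
    { toFun := fun m => Additive.ofMul (t m), map_zero' := by simp [t0], map_add' := fun a b => by simp [tadd] }
  let T : Multiplicative (M ⧸ B) →* L :=
    AddMonoidHom.toMultiplicativeLeft (QuotientAddGroup.lift B T₀ fun m hm => congrArg Additive.ofMul (hone m hm))
  have hT : ∀ m : M, T (Multiplicative.ofAdd (m : M ⧸ B)) = t m := fun m => rfl
  letI : Algebra Λ L := (ψ.comp AddMonoidAlgebra.singleZeroRingHom).toAlgebra
  let Φ : AddMonoidAlgebra Λ (M ⧸ B) →ₐ[Λ] L := AddMonoidAlgebra.lift Λ L (M ⧸ B) T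
  have hΦs : ∀ c, Φ (AddMonoidAlgebra.single c 1) = T (Multiplicative.ofAdd c) := fun c => by simp [Φ]
  have hcyc0 : cycIdeal Λ (M ⧸ B) ≤ RingHom.ker Φ := by
    refine Ideal.span_le.2 ?_
    rintro _ ⟨g, hg, rfl⟩
    show Φ (Polynomial.aeval _ (cyclotomic (Nat.card (M ⧸ B)) Λ)) = 0
    rw [← Polynomial.aeval_algHom_apply, hΦs]
    obtain ⟨m, rfl⟩ := QuotientAddGroup.mk_surjective g
    rw [hT, aeval_def, eval₂_eq_eval_map, map_cyclotomic]
    set n := Nat.card (M ⧸ B)
    have hn : 0 < n := Nat.card_pos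
    have hord : addOrderOf (m : M ⧸ B) = n :=
      addOrderOf_eq_card_of_forall_mem_zmultiples fun z => hg ▸ AddSubgroup.mem_top z
    have htn : t m ^ n = 1 := by
      rw [← tnsmul]
      refine hone _ ((QuotientAddGroup.eq_zero_iff _).1 ?_)
      rw [QuotientAddGroup.mk_nsmul, ← hord, addOrderOf_nsmul_eq_zero]
    have hprod := congrArg (Polynomial.eval (t m)) (prod_cyclotomic_eq_X_pow_sub_one hn L)
    rw [eval_sub, eval_pow, eval_X, eval_one, htn, sub_self, eval_prod,
      ← Nat.cons_self_properDivisors hn.ne', Finset.prod_cons] at hprod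
    refine ((IsUnit.mul_left_eq_zero ?_)).1 hprod
    refine IsUnit.prod_iff.2 fun d hd => ?_
    rw [← IsLocalRing.notMem_maximalIdeal, ← IsLocalRing.residue_eq_zero_iff]
    intro h0
    rw [Nat.mem_properDivisors] at hd
    have hd0 : 0 < d := Nat.pos_of_dvd_of_pos hd.1 hn
    rw [← eval₂_at_apply, ← eval_map, map_cyclotomic] at h0
    have hpow : π (t m) ^ d = 1 := by
      have h1 : (Polynomial.X ^ d - 1 : (IsLocalRing.ResidueField L)[X]).eval (π (t m)) = 0 := by
        rw [← prod_cyclotomic_eq_X_pow_sub_one hd0, eval_prod]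
        exact Finset.prod_eq_zero (Nat.mem_divisors_self d hd0.ne') h0
      simpa [sub_eq_zero] using h1
    have h2 : d • (m : M ⧸ B) = 0 := by
      rw [← QuotientAddGroup.mk_nsmul, QuotientAddGroup.eq_zero_iff]
      show π (t (d • m)) = 1
      rw [tnsmul, map_pow, hpow]
    have := Nat.le_of_dvd hd0 (hord ▸ addOrderOf_dvd_of_nsmul_eq_zero h2)
    omega
  have hfac : ∀ x, Φ (quotMap Λ M B x) = ψ (quotMap Λ M B₀ x) := fun x => by
    induction x using AddMonoidAlgebra.induction_linear with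
    | zero => simp
    | add a b ha hb => simp only [map_add, ha, hb]
    | single m r =>
      have : (AddMonoidAlgebra.single m r : AddMonoidAlgebra Λ M) =
          AddMonoidAlgebra.single 0 r * AddMonoidAlgebra.single m 1 := by simp
      rw [this, map_mul, map_mul, map_mul, map_mul]
      congr 1
      · simp [quotMap, Φ, RingHom.algebraMap_toAlgebra, Algebra.smul_def]
      · rw [show quotMap Λ M B (AddMonoidAlgebra.single m 1) = AddMonoidAlgebra.single (m : M ⧸ B) 1 by simp [quotMap],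
          hΦs, hT]
  intro x hx
  rw [RingHom.mem_ker] at hx ⊢
  show ψ (quotMap Λ M B₀ x) = 0
  rw [← hfac]
  exact hcyc0 (Ideal.Quotient.eq_zero_iff_mem.1 hx)

theorem quotMap_eq_zero (B₀ : AddSubgroup M) [B₀.FiniteIndex] (hu : IsUnit (B₀.index : Λ)) (x : AddMonoidAlgebra Λ M)
    (hx : ∀ B : AddSubgroup M, B₀ ≤ B → IsAddCyclic (M ⧸ B) → cycQuotMap Λ M B x = 0) :
    quotMap Λ M B₀ x = 0 := by
  let y := quotMap Λ M B₀ x
  let I : Ideal (AddMonoidAlgebra Λ (M ⧸ B₀)) := LinearMap.ker (LinearMap.toSpanSingleton _ _ y)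
  have hI : I = ⊤ := by
    by_contra hne
    obtain ⟨P, hP, hIP⟩ := Ideal.exists_le_maximal I hne
    have := hP.isPrime
    obtain ⟨B, hB, hc, hle⟩ := exists_factor B₀ hu (algebraMap (AddMonoidAlgebra Λ (M ⧸ B₀)) (Localization.AtPrime P))
    have h0 : algebraMap _ (Localization.AtPrime P) y = 0 := hle (hx B hB hc)
    obtain ⟨⟨s, hs⟩, hsy⟩ := (IsLocalization.map_eq_zero_iff P.primeCompl _ y).1 h0
    exact hs (hIP (by simpa [I] using hsy))
  have h1 : (1 : AddMonoidAlgebra Λ (M ⧸ B₀)) ∈ I := hI ▸ Submodule.mem_top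
  simpa [I] using h1

lemma exists_mem_ker_unit (B B' : AddSubgroup M) [B.FiniteIndex] [B'.FiniteIndex] [IsAddCyclic (M ⧸ B)]
    [IsAddCyclic (M ⧸ B')] (hne : B ≠ B') (hu : IsUnit (B.index : Λ)) (hu' : IsUnit (B'.index : Λ)) :
    ∃ x, cycQuotMap Λ M B x = 0 ∧ cycQuotMap Λ M B' x = 1 := by
  suffices h : ∃ x, cycQuotMap Λ M B x = 0 ∧ IsUnit (cycQuotMap Λ M B' x) by
    obtain ⟨x, hx, hxu⟩ := h
    obtain ⟨u, hu⟩ := hxu
    obtain ⟨z, hz⟩ := cycQuotMap_surjective (Λ := Λ) B' ((u⁻¹ : (CycQuot Λ (M ⧸ B'))ˣ) : CycQuot Λ (M ⧸ B'))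
    exact ⟨z * x, by rw [map_mul, hx, mul_zero], by rw [map_mul, hz, ← hu, Units.inv_mul]⟩
  have := subsingleton_cycQuot (Λ := Λ) B B' hne hu hu'
  obtain ⟨s, hs, hs0⟩ := (LocalizedModule.subsingleton_iff.1 this) (Ideal.Quotient.mk _ 1)
  refine ⟨s, ?_, ?_⟩
  · have : Ideal.Quotient.mk (cycIdeal Λ (M ⧸ B)) (quotMap Λ M B s * 1) = 0 := hs0
    rwa [mul_one] at this
  · rw [show cycQuotMap Λ M B' s = 1 from hs]
    exact isUnit_one

/-- The subgroups indexing the factors. -/
abbrev Idx (B₀ : AddSubgroup M) := {B : AddSubgroup M // B₀ ≤ B ∧ IsAddCyclic (M ⧸ B)}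

lemma finite_idx (B₀ : AddSubgroup M) [B₀.FiniteIndex] : Finite (Idx B₀) := by
  refine Finite.of_injective (β := Set (M ⧸ B₀)) (fun B => QuotientAddGroup.mk '' (B.1 : Set M)) fun B C h => ?_
  refine Subtype.ext (SetLike.ext fun m => ?_)
  constructor <;> intro hm
  · obtain ⟨c, hc, hcm⟩ := (Set.ext_iff.1 h (m : M ⧸ B₀)).1 (Set.mem_image_of_mem _ hm)
    have := C.1.add_mem hc (C.2.1 (QuotientAddGroup.eq.1 hcm))
    simpa using this
  · obtain ⟨c, hc, hcm⟩ := (Set.ext_iff.1 h (m : M ⧸ B₀)).2 (Set.mem_image_of_mem _ hm)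
    have := B.1.add_mem hc (B.2.1 (QuotientAddGroup.eq.1 hcm))
    simpa using this

lemma isUnit_index {B₀ : AddSubgroup M} (hu : IsUnit (B₀.index : Λ)) {B : AddSubgroup M} (h : B₀ ≤ B) :
    IsUnit (B.index : Λ) := by
  obtain ⟨c, hc⟩ := AddSubgroup.index_dvd_of_le h
  rw [hc, Nat.cast_mul, IsUnit.mul_iff] at hu
  exact hu.1

theorem exists_proj (B₀ : AddSubgroup M) [B₀.FiniteIndex] (hu : IsUnit (B₀.index : Λ)) (B : Idx B₀) :
    ∃ e : AddMonoidAlgebra Λ M, cycQuotMap Λ M B.1 e = 1 ∧ ∀ C : Idx B₀, C ≠ B → cycQuotMap Λ M C.1 e = 0 := by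
  classical
  have := finite_idx B₀
  have := Fintype.ofFinite (Idx B₀)
  have h : ∀ C : Idx B₀, ∃ x, (C ≠ B → cycQuotMap Λ M C.1 x = 0) ∧ cycQuotMap Λ M B.1 x = 1 := fun C => by
    by_cases hC : C = B
    · exact ⟨1, fun h => absurd hC h, map_one _⟩
    · have := B.2.2
      have := C.2.2
      have : B.1.FiniteIndex := AddSubgroup.finiteIndex_of_le B.2.1
      have : C.1.FiniteIndex := AddSubgroup.finiteIndex_of_le C.2.1
      obtain ⟨x, h1, h2⟩ := exists_mem_ker_unit (Λ := Λ) C.1 B.1 (fun e => hC (Subtype.ext e))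
        (isUnit_index hu C.2.1) (isUnit_index hu B.2.1)
      exact ⟨x, fun _ => h1, h2⟩
  choose x hx1 hx2 using h
  refine ⟨∏ C, x C, by rw [map_prod]; exact Finset.prod_eq_one fun C _ => hx2 C, fun C hC => ?_⟩
  rw [map_prod]
  exact Finset.prod_eq_zero (Finset.mem_univ C) (hx1 C hC)

theorem bijective_pi_of_proj {R : Type*} [CommRing R] {N : Type*} [AddCommGroup N] [Module R N] {ι : Type*}
    [Fintype ι] (S : ι → Submonoid R) (e : ι → R) (he : ∀ i, e i ∈ S i)
    (hz : ∀ i j, i ≠ j → ∀ y : N, e i • e j • y = 0) (hone : ∀ i, ∀ s ∈ S i, ∀ y : N, e i • s • y = e i • y)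
    (hsum : ∀ y : N, ∑ i, e i • y = y) :
    Function.Bijective (LinearMap.pi (R := R) fun i => LocalizedModule.mkLinearMap (S i) N) := by
  classical
  constructor
  · rw [← LinearMap.ker_eq_bot, eq_bot_iff]
    intro y hy
    rw [Submodule.mem_bot, ← hsum y]
    refine Finset.sum_eq_zero fun i _ => ?_
    obtain ⟨s, hs⟩ := IsLocalizedModule.exists_of_eq (S := S i) (f := LocalizedModule.mkLinearMap (S i) N)
      ((congrFun (LinearMap.mem_ker.1 hy) i).trans (map_zero (LocalizedModule.mkLinearMap (S i) N)).symm)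
    rw [smul_zero, Submonoid.smul_def] at hs
    rw [← hone i s s.2, hs, smul_zero]
  · intro v
    choose p hp using fun i => IsLocalizedModule.surj (S i) (LocalizedModule.mkLinearMap (S i) N) (v i)
    refine ⟨∑ i, e i • (p i).1, funext fun j => ?_⟩
    show LocalizedModule.mkLinearMap (S j) N (∑ i, e i • (p i).1) = v j
    rw [map_sum, Finset.sum_eq_single j]
    · refine ((Module.End.isUnit_iff _).1 (IsLocalizedModule.map_units
        (LocalizedModule.mkLinearMap (S j) N) (p j).2)).1 ?_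
      rw [Module.algebraMap_end_apply, Module.algebraMap_end_apply, ← map_smul,
        ← Submonoid.smul_def (p j).2 (v j), hp j]
      refine (IsLocalizedModule.eq_iff_exists (S j) _).2 ⟨⟨e j, he j⟩, ?_⟩
      show e j • ((p j).2 : R) • e j • (p j).1 = e j • (p j).1
      rw [hone j _ (p j).2.2, hone j _ (he j)]
    · intro i _ hi
      rw [← map_zero (LocalizedModule.mkLinearMap (S j) N)]
      refine (IsLocalizedModule.eq_iff_exists (S j) _).2 ⟨⟨e j, he j⟩, ?_⟩
      show e j • e i • (p i).1 = e j • (0 : N)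
      rw [smul_zero, hz j i hi.symm]
    · simp

theorem bijective_localized (B₀ : AddSubgroup M) [B₀.FiniteIndex] (hu : IsUnit (B₀.index : Λ)) :
    Function.Bijective (LinearMap.pi (R := AddMonoidAlgebra Λ M)
      fun B : Idx B₀ => LocalizedModule.mkLinearMap (locSubmonoid Λ M B.1) (AddMonoidAlgebra Λ (M ⧸ B₀))) := by
  classical
  have := finite_idx B₀
  have := Fintype.ofFinite (Idx B₀)
  choose e he1 he0 using fun B => exists_proj B₀ hu B
  have hkill : ∀ x : AddMonoidAlgebra Λ M, (∀ B : Idx B₀, cycQuotMap Λ M B.1 x = 0) →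
      ∀ y : AddMonoidAlgebra Λ (M ⧸ B₀), x • y = 0 := fun x hx y => by
    show quotMap Λ M B₀ x * y = 0
    rw [quotMap_eq_zero B₀ hu x fun B h1 h2 => hx ⟨B, h1, h2⟩, zero_mul]
  refine bijective_pi_of_proj (fun B : Idx B₀ => locSubmonoid Λ M B.1) e he1 ?_ ?_ ?_
  · intro i j hij y
    rw [smul_smul]
    refine hkill _ (fun D => ?_) y
    rcases eq_or_ne D i with rfl | hD
    · rw [map_mul, he0 j D hij, mul_zero]
    · rw [map_mul, he0 i D hD, zero_mul]
  · intro i x hx y
    rw [smul_smul, ← sub_eq_zero, ← sub_smul]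
    refine hkill _ (fun D => ?_) y
    rcases eq_or_ne D i with rfl | hD
    · rw [map_sub, map_mul, show cycQuotMap Λ M D.1 x = 1 from hx, mul_one, sub_self]
    · rw [map_sub, map_mul, he0 i D hD, zero_mul, sub_zero]
  · intro y
    rw [← Finset.sum_smul, ← sub_eq_zero]
    nth_rewrite 2 [← one_smul (AddMonoidAlgebra Λ M) y]
    rw [← sub_smul]
    refine hkill _ (fun D => ?_) y
    rw [map_sub, map_one, map_sum, Finset.sum_eq_single D (fun B _ hB => he0 B D hB.symm) (by simp), he1, sub_self]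

theorem bijective_cycQuot (A : Type v) [AddCommGroup A] [Finite A] (hA : IsUnit ((Nat.card A : ℕ) : Λ)) :
    Function.Bijective (RingHom.pi fun B : {B : AddSubgroup A // IsAddCyclic (A ⧸ B)} =>
      cycQuotMap Λ A B.1) := by
  classical
  have := Fintype.ofFinite {B : AddSubgroup A // IsAddCyclic (A ⧸ B)}
  have hu : IsUnit ((⊥ : AddSubgroup A).index : Λ) := by rwa [AddSubgroup.index_bot]
  constructor
  · rw [injective_iff_map_eq_zero]
    intro x hx
    have h := quotMap_eq_zero (⊥ : AddSubgroup A) hu x fun B _ hc => congrFun hx ⟨B, hc⟩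
    refine AddMonoidAlgebra.mapDomain_injective (f := ((↑) : A → A ⧸ (⊥ : AddSubgroup A))) ?_ ?_
    · intro a b hab
      simpa [neg_add_eq_zero] using QuotientAddGroup.eq.1 hab
    · exact h.trans (map_zero (quotMap Λ A ⊥)).symm
  · intro v
    choose e he1 he0 using fun B : {B : AddSubgroup A // IsAddCyclic (A ⧸ B)} =>
      exists_proj (Λ := Λ) (⊥ : AddSubgroup A) hu ⟨B.1, bot_le, B.2⟩
    choose x hx using fun B : {B : AddSubgroup A // IsAddCyclic (A ⧸ B)} => cycQuotMap_surjective (Λ := Λ) B.1 (v B)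
    refine ⟨∑ B, e B * x B, funext fun C => ?_⟩
    show cycQuotMap Λ A C.1 (∑ B, e B * x B) = v C
    rw [map_sum, Finset.sum_eq_single C]
    · rw [map_mul, he1 C, one_mul, hx]
    · intro B _ hB
      rw [map_mul, he0 B ⟨C.1, bot_le, C.2⟩ (fun h => hB (Subtype.ext (congrArg (fun z : Idx (⊥ : AddSubgroup A) => z.1) h).symm)),
        zero_mul]
    · simp

end Groth.Agent.CycLoc
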